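import Cfsg.Agent.FT.BG12b

/-! Bender-Glauberman, section 12, first half (12.1 to 12.9). -/
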