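import Cfsg.Agent.FT.PF13c
import Cfsg.Agent.FT.PF13d

/-! Peterfalvi, section 13. -/
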