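import Cfsg.Agent.FT.PF13

/-! Peterfalvi, (14.11). -/

set_option autoImplicit false
set_option linter.unusedSectionVars false

namespace CfFT.PF

open Cfsg CfH4 CfH5 CfH9
open scoped ComplexConjugate Classical commutatorElement

universe u v

theorem count_14_11 {g a b b' c d s k p q u v : ℝ} (hg : 0 < g) (hq : 3 ≤ q) (hp : 5 ≤ p)
    (hu : 7 ≤ u) (hv : p * q ≤ v) (hk : 2 * p * v ≤ k) (e2 : 1 - p * q / k ≤ g⁻¹ * s)
    (e3 : s + d ≤ g) (e4 : g ≤ a + b + b' + c + d) (e5 : a / g = (k - 1) / (k * (p * q)))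
    (e6 : b * (q * u) ≤ g) (e6' : b' * (p * v) ≤ g) (e7 : c * (q * p) = g * ((q - 1) * (p - 1)))
    (hb : 0 ≤ b) (hb' : 0 ≤ b') : False := by
  have v0 : 15 ≤ v := by nlinarith
  have k0 : 0 < k := by nlinarith
  obtain ⟨t, rfl⟩ : ∃ t, g = t * (p * q) := ⟨g / (p * q), by field_simp⟩
  have t0 : 0 < t := (mul_pos_iff_of_pos_right (by positivity)).1 hg
  have a1 : a ≤ t := by
    rw [div_eq_iff hg.ne'] at e5
    rw [e5, show (k - 1) / (k * (p * q)) * (t * (p * q)) = t - t / k by field_simp]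
    linarith [div_pos t0 k0]
  have a2 : 7 * b ≤ t * p := le_of_mul_le_mul_right (by
    nlinarith [mul_le_mul_of_nonneg_left hu (mul_nonneg hb (by linarith : 0 ≤ q))]) (by linarith : 0 < q)
  have a3 : 15 * b' ≤ t * q := le_of_mul_le_mul_right (by
    nlinarith [mul_le_mul_of_nonneg_left v0 (mul_nonneg hb' (by linarith : 0 ≤ p))])
    (by linarith : 0 < p)
  have a4 : c = t * ((q - 1) * (p - 1)) := mul_right_cancel₀ (by positivity : q * p ≠ 0) (by
    rw [e7]; ring)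
  have a5 : p * q / k ≤ 1 / (2 * p) := by
    rw [div_le_div_iff₀ k0 (by positivity)]; nlinarith
  have a6 : 2 * d ≤ t * q := by
    rw [le_inv_mul_iff₀ hg] at e2
    have := mul_le_mul_of_nonneg_left a5 hg.le
    rw [show t * (p * q) * (1 / (2 * p)) = t * q / 2 by field_simp] at this
    linarith
  nlinarith [mul_le_mul_of_nonneg_left hp t0.le, mul_le_mul_of_nonneg_left hq t0.le]

theorem mul_le_of_geom {p q v : ℕ} (hq : 3 ≤ q) (hp : 3 ≤ p) (hv : v * (q - 1) = q ^ p - 1) :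
    p * q ≤ v := by
  obtain ⟨m, rfl⟩ := Nat.exists_eq_add_of_le' (show 2 ≤ p by omega)
  obtain ⟨r, rfl⟩ := Nat.exists_eq_add_of_le' (show 1 ≤ q by omega)
  have a1 : 1 + m * 2 ≤ (1 + 2) ^ m := 
    one_add_mul_le_pow_of_sq_nonneg (by positivity) (by positivity) (by positivity) m
  have a2 : (1 + 2) ^ m ≤ (r + 1) ^ m := Nat.pow_le_pow_left (by omega) m
  have a3 := Nat.mul_le_mul_right ((r + 1) ^ 2) (show m + 2 ≤ (r + 1) ^ m by omega)
  rw [← pow_add] at a3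
  rw [Nat.add_sub_cancel] at hv
  refine Nat.le_of_mul_le_mul_right (c := r) ?_ (by omega)
  have : (m + 2) * (r + 1) ^ 2 = (m + 2) * (r + 1) * r + (m + 2) * (r + 1) := by ring
  have : 1 ≤ (m + 2) * (r + 1) := by nlinarith
  omega

variable {G : Type u} [Group G] [Fintype G] {S T L M K U V W W₁ W₂ : Subgroup G} {p q u v : ℕ}
  {ν : (G → ℂ) →ₗ[ℂ] (G → ℂ)} {ζ : G → ℂ} {g : G}

theorem CycTI.sum_odd (h : CycTI L W W₁ W₂) (c : (G → ℂ) → ℤ) (hc : ∀ ω ∈ irr W, Odd (c ω))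
    (hL : g ∈ L) (hg : (orderOf g).Coprime (Nat.card W)) :
    ∃ m : ℤ, (∑ ω ∈ irr W, (c ω : ℂ) • sig L W W₁ W₂ ω) g = 2 * m + 1 := by
  choose! f hf using fun ω (hω : ω ∈ irr W) => h.sig_W_int (mem_irr.1 hω) hg
  have o := (irr_one (K := W)).mem
  have f1 : f (one W) = 1 := by
    have := hf _ o
    rw [h.sig_one, one_of_mem hL] at this
    exact_mod_cast this.symm
  obtain ⟨m, hm⟩ := (ZMod.intCast_zmod_eq_zero_iff_dvd (∑ ω ∈ irr W, c ω * f ω - 1) 2).1 (by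
    push_cast
    rw [Finset.sum_congr rfl fun ω hω => by rw [ZMod.intCast_eq_one_iff_odd.2 (hc ω hω), one_mul],
      ← Finset.sum_erase_add _ _ o, f1, Int.cast_one, add_sub_cancel_right]
    exact Finset.sum_involution (fun χ _ => star χ) (fun χ hχ => by
        have h1 := mem_irr.1 (Finset.mem_of_mem_erase hχ)
        have h2 := hf _ h1.star.mem
        rw [h.sig_star h1.cf, star_apply', hf _ h1.mem, map_intCast, Int.cast_inj] at h2
        rw [← h2]; exact CharTwo.add_self_eq_zero _)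
      (fun χ hχ _ => h.star_ne (mem_irr.1 (Finset.mem_of_mem_erase hχ)) (Finset.ne_of_mem_erase hχ))
      (fun χ hχ => Finset.mem_erase.2 ⟨star_ne_one (Finset.ne_of_mem_erase hχ),
        (mem_irr.1 (Finset.mem_of_mem_erase hχ)).star.mem⟩) fun _ _ => star_star _)
  refine ⟨m, ?_⟩
  rw [Finset.sum_apply, Finset.sum_congr rfl fun ω hω => by rw [Pi.smul_apply, hf ω hω, smul_eq_mul]]
  exact_mod_cast sub_eq_iff_eq_add.1 hm

variable [MS G] [BGS G] [P10 G]

theorem TP9.cover (h : TP9 S U W W₁ W₂ ⊥ ⊥ p q u) (hg : Gal S U ⊥) (h1 : g ∉ cls ⊤ (shp (MF S)))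
    (h3 : g ∉ cls ⊤ (cV W W₁ W₂)) : (orderOf g).Coprime p := by
  by_contra e
  obtain ⟨y, a, ha, a1, hy⟩ := exists_conj_cent_hall (BGS.out.hallF S h.tp.max) fun e' =>
    e (e'.coprime_dvd_right h.p_dvd_H)
  have h4 := h.ntiP.cent_le' ⟨ha, a1⟩ hy
  by_cases h5 : y * g * y⁻¹ ∈ (⁅S, S⁆ : Subgroup G)
  · refine h1 ((conj_mem_cls_iff (Subgroup.mem_top y)).1 (subset_cls ⟨by_contra fun c => a1
      ((h.gal_facts hg).2.2.2.2 _ h5 (by rwa [sup_bot_eq]) a ha (comm_mem_bot.2 (mem_Cx.1 hy))),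
      conj_ne_one.2 ?_⟩))
    rintro rfl; simp at e
  · obtain ⟨z, -, h6, h7⟩ := h.tp.prTI.exists_conj h4 h5
    refine h3 ((conj_mem_cls_iff (Subgroup.mem_top y)).1 ((conj_mem_cls_iff (Subgroup.mem_top z)).1
      (subset_cls ⟨h6, fun h8 => e ?_, h7⟩)))
    have := h.tp.cop_W.coprime_dvd_left (W₁.orderOf_dvd_natCard h8)
    rwa [CfH9.orderOf_conj', CfH9.orderOf_conj', h.cardW] at this

theorem TP9.card_cls_P (h : TP9 S U W W₁ W₂ ⊥ ⊥ p q u) :
    (ft (cls ⊤ (shp (MF S)))).card * (q * u) ≤ Nat.card G := by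
  rw [h.ntiP.card_cls, card_ft_shp, ← Subgroup.card_top (G := G),
    ← card_mul_relIndex (le_top (a := S)), h.cardS', h.cardP, mul_comm _ (S.relIndex ⊤), mul_assoc]
  exact Nat.mul_le_mul_left _ (Nat.mul_le_mul_right _ (Nat.sub_le _ _))

namespace H13
variable (h : H13 S T U V W W₁ W₂ p q u v) (hM : IsCoatom M) (hF : FrobKer M K)
  (hν : Lin M K (supportR M) ν ζ)
include h hM hF hν

local notation "η" => sig ⊤ W W₁ W₂
local notation "β" => dade M (supportR M) (ind M K (one K) - ζ)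

theorem odd_all (h1 : ¬ q * (Nat.card K - 1) ≤ K.relIndex M * (u - 1))
    (h2 : ¬ p * (Nat.card K - 1) ≤ K.relIndex M * (v - 1)) :
    ∀ ω ∈ irr W, ∃ n : ℤ, Odd n ∧ ip ⊤ β (η ω) = n := fun ω hω => by
  have c := h.hS.tp.cycTI
  have o : ip ⊤ β (η (one W)) = (1 : ℤ) := by rw [c.sig_one, hν.beta_one, Int.cast_one]
  obtain ⟨i, hi, j, hj, rfl⟩ := c.exists_IJ (mem_irr.1 hω)
  obtain ⟨m, hm, a⟩ : ∃ n : ℤ, Odd n ∧ ip ⊤ β (η j) = n := by
    by_cases e : j = one W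
    · exact ⟨1, odd_one, e ▸ o⟩
    · exact ((h.typeI_cases hM hF hν).resolve_left h1).2 j hj e
  obtain ⟨n, hn, b⟩ : ∃ n : ℤ, Odd n ∧ ip ⊤ β (η i) = n := by
    by_cases e : i = one W
    · exact ⟨1, odd_one, e ▸ o⟩
    · exact sig_comm ⊤ W W₁ W₂ ▸ ((h.symm.typeI_cases hM hF hν).resolve_left h2).2 i hi e
  have := c.exchange (vc_cf hν.beta_vc) (fun v => h.tau_V hM hF hν.sub_supOn) hi hj c.one_mem_I
    c.one_mem_J
  rw [irr_one.mul_one', (irK_irr hi).mul_one', (irK_irr hj).one_mul', o, a, b] at this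
  exact ⟨n + m - 1, (hn.add_odd hm).sub_odd odd_one, by push_cast at this ⊢; linear_combination this⟩

/-- (14.11.2), (14.11.3) -/
theorem one_le (he : K.relIndex M ≤ p * q) (ho : ∀ ω ∈ irr W, ∃ n : ℤ, Odd n ∧ ip ⊤ β (η ω) = n) :
    K.relIndex M = p * q ∧ ∀ g ∉ dsupp (shp K) (supportR M), (orderOf g).Coprime (p * q) →
      1 ≤ ‖ν ζ g‖ ^ 2 := by
  have c := h.hS.tp.cycTI
  obtain ⟨a, Y, vY, e, oY, ha, hn⟩ := c.sig_oni.exists_decomp
    (fun ω hω => (c.sig_sirr (mem_irr.1 hω)).vc) hν.beta_vc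
  have oa : ∀ ω ∈ irr W, Odd (a ω) := fun ω hω => by
    obtain ⟨n, o, e⟩ := ho ω hω
    rwa [Int.cast_inj.1 ((ha ω hω).symm.trans e)]
  have s : (p * q : ℤ) ≤ ∑ ω ∈ irr W, a ω ^ 2 := by
    have := Finset.card_nsmul_le_sum (irr W) (fun ω => a ω ^ 2) 1 fun ω hω =>
      (one_le_sq_iff_one_le_abs _).2 (Int.one_le_abs fun e => by simpa [e] using oa ω hω)
    rwa [c.card_irr_W, h.hS.q_eq, h.hS.cardW, nsmul_one, Nat.cast_mul, mul_comm] at this
  have iY : ∀ ξ ∈ sInd K M K ⊥, ip ⊤ β (ν ξ) = ip ⊤ Y (ν ξ) := fun ξ m => by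
    rw [e, ip_add_left, ip_symm_zero (ip_sum_smul_eq_zero _ fun ω hω =>
      h.orth_eta hM hF hν m (mem_irr.1 hω)), zero_add]
  have m' := star_mem_sInd hν.mem
  have b := hν.ip_beta m'
  rw [iY _ m', iY _ hν.mem, vc_star_one hν.irr.vc, hν.deg, div_self (relIndexC_ne _ _), one_mul,
    hν.irr.ip_of_ne hν.irr.star (sInd_star_ne hν.le hν.norm hν.odd le_rfl hν.mem).symm, sub_zero,
    hν.nu_star hν.mem hν.irr] at b
  have y1 := vc_one_le_nm vY fun e => by simp [e, ip_zero_left] at b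
  have s' : (p * q : ℝ) ≤ (∑ ω ∈ irr W, a ω ^ 2 : ℤ) := by exact_mod_cast s
  have he' : (K.relIndex M : ℝ) ≤ p * q := by exact_mod_cast he
  rw [hν.nm_beta] at hn
  have sY := sirr_of_nm vY (by linarith)
  refine ⟨by exact_mod_cast (by linarith : (K.relIndex M : ℝ) = p * q), fun g hg hc => ?_⟩
  have n : ‖ν ζ g‖ = ‖Y g‖ := by
    by_cases z : ip ⊤ Y (ν ζ) = 0
    · rcases sY.eq_or_of_ip hν.sirr.star (by rw [b, z]; simp) with e | e <;> simp [e]
    · rcases sY.eq_or_of_ip hν.sirr z with e | e <;> simp [e]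
  obtain ⟨m, hm⟩ := c.sum_odd a oa trivial (by rwa [c.card_W, h.hS.q_eq, h.hS.cardW, mul_comm])
  have := dade_supOn (L := M) (H := supportR M) hν.sub_supOn g hg
  rw [e, Pi.add_apply, hm, add_eq_zero_iff_neg_eq] at this
  rw [n]
  refine one_le_normSq ⟨-(2 * m + 1), by rw [← this]; push_cast; rfl⟩ fun e => ?_
  have : -(2 * m + 1) = 0 := by exact_mod_cast this.trans e
  omega

end H13

/-- (14.11) -/
theorem H13.core_eq (h : H13 S T U V W W₁ W₂ p q u v) (hlt : q < p) (gS : Gal S U ⊥)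
    (gT : Gal T V ⊥) (hv : v * (q - 1) = q ^ p - 1) (h2 : IsOfTypeII T) (hM : IsCoatom M)
    (hN : Nm(V) ≤ M) : MF M = V ∧ (MF M).relIndex M = p * q := by
  obtain ⟨hF, hV, E, f, hE, hc⟩ := h.symm.support h2 hM hN
  have q3 := h.hS.three_le_q
  have he : (MF M).relIndex M ≤ p * q := by
    rw [f.sd.relIndex_left]
    rcases hc with rfl | ⟨e, -⟩
    · rw [h.hS.cardW]; exact Nat.le_mul_of_pos_right _ (by omega)
    · rw [e, mul_comm]
  by_cases e : MF M = V
  · refine ⟨e, hc.elim (fun c => absurd (hN.trans ?_) (h.hT.tp.of_II h2).2.2.2.2.1) fun c => ?_⟩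
    · rw [← f.sd.sup, e, c]; exact sup_le h.hT.tp.U_le_M h.hT.tp.W₁_le
    · rw [f.sd.relIndex_left, c.1, mul_comm]
  exfalso
  obtain ⟨ν, ζ, hν⟩ := frob_lin hM hF
  have k := card_mul_relIndex hV
  have v1 := h.hT.one_lt_u
  rw [h.hT.cardU] at k
  have x1 : 2 * p + 1 ≤ V.relIndex (MF M) := two_mul_add_one_le h.hS.p_odd
    (odd_relIndex (ms_odd M) (MF_le M) V) (fun c => e (le_antisymm (Subgroup.relIndex_eq_one.1 c) hV))
    (by
      have a1 := (h.hS.cardW ▸ Subgroup.card_dvd_of_le hE).trans f.dvd_pred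
      have a2 := h.hT.q_dvd.mul_right (V.relIndex (MF M))
      have := relIndex_pos V (MF M)
      rw [Nat.sub_one_mul, k] at a2
      have a3 := Nat.dvd_sub a1 a2
      rwa [show Nat.card (MF M) - 1 - (Nat.card (MF M) - V.relIndex (MF M)) = V.relIndex (MF M) - 1 by
        have : V.relIndex (MF M) ≤ Nat.card (MF M) := k ▸ Nat.le_mul_of_pos_left _ (by omega)
        omega] at a3)
  have k1 : v * (2 * p + 1) ≤ Nat.card (MF M) := k ▸ Nat.mul_le_mul_left v x1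
  have k2 : q * (v - 1) < Nat.card (MF M) - 1 := by
    have := Nat.mul_le_mul hlt.le (Nat.sub_le v 1)
    have : v * (2 * p + 1) = 2 * (p * v) + v := by ring
    omega
  obtain ⟨e1, e0⟩ := h.one_le hM hF hν he (h.odd_all hM hF hν (fun c => by
    have a1 := ar_14_8 q3 hlt h.hS.u_le hv
    have a2 := c.trans (Nat.mul_le_mul_right _ he)
    rw [mul_comm p, mul_assoc] at a2
    have := Nat.le_of_mul_le_mul_left a2 (by omega)
    rw [mul_comm _ p, mul_comm _ q] at a1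
    omega) fun c => by
    have a2 := c.trans (Nat.mul_le_mul_right _ he)
    rw [mul_assoc] at a2
    exact absurd (Nat.le_of_mul_le_mul_left a2 (by omega)) k2.not_ge)
  have c := h.hS.tp.cycTI
  obtain ⟨_, _, -, -, -, -, -, e2⟩ := hν.decomp
  replace e2 := (e2 (hF.two_mul_le hν.odd)).1.trans (hν.dd.nm_rho_le_sum hν.sirr.cf)
  set A := ft (dsupp (shp (MF M)) (supportR M))
  set B := ft (cls ⊤ (shp (MF S)))
  set B' := ft (cls ⊤ (shp (MF T)))
  set C := ft (cls ⊤ (cV W W₁ W₂))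
  have e3 : ∑ g ∈ A, ‖ν ζ g‖ ^ 2 + ((A ∪ B ∪ B' ∪ C)ᶜ).card ≤ Nat.card G := by
    have := card_mul_nm (L := ⊤) (ν ζ)
    rw [hν.sirr.nm_eq, Subgroup.card_top, mul_one, ← Finset.sum_add_sum_compl A] at this
    rw [this, Finset.card_eq_sum_ones, Nat.cast_sum]
    refine add_le_add_right ((Finset.sum_le_sum fun g hg => ?_).trans
      (Finset.sum_le_sum_of_subset_of_nonneg (Finset.compl_subset_compl.2 (Finset.subset_union_left.trans
        (Finset.subset_union_left.trans Finset.subset_union_left))) fun _ _ _ => sq_nonneg _)) _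
    simp only [Finset.mem_compl, Finset.mem_union, not_or, A, B, B', C, mem_ft] at hg
    exact_mod_cast e0 g hg.1.1.1 ((h.hS.cover gS hg.1.1.2 hg.2).mul_right
      (h.hT.cover gT hg.1.2 (cV_comm W W₁ W₂ ▸ hg.2)))
  have e4 : Nat.card G ≤ A.card + B.card + B'.card + C.card + ((A ∪ B ∪ B' ∪ C)ᶜ).card := by
    rw [Nat.card_eq_fintype_card, ← Finset.card_add_card_compl (A ∪ B ∪ B' ∪ C)]
    exact Nat.add_le_add_right ((Finset.card_union_le _ _).trans (Nat.add_le_add_right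
      ((Finset.card_union_le _ _).trans (Nat.add_le_add_right (Finset.card_union_le _ _) _)) _)) _
  have e5 := hν.dd.card_dsupp
  have e7 : C.card * (Nat.card W₁ * Nat.card W₂) =
      Nat.card G * ((Nat.card W₁ - 1) * (Nat.card W₂ - 1)) := by
    rw [c.nti.card_cls, c.card_V, ← c.card_W, ← Subgroup.card_top (G := G),
      ← card_mul_relIndex (le_top (a := W))]
    ring
  rw [card_ft_shp, ← card_mul_relIndex (MF_le M), Nat.cast_pred Nat.card_pos, e1] at e5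
  rw [e1] at e2
  have e8 := congrArg (Nat.cast : ℕ → ℝ) e7
  rw [Nat.cast_mul, Nat.cast_mul, Nat.cast_mul, Nat.cast_mul, Nat.cast_pred Nat.card_pos,
    Nat.cast_pred Nat.card_pos, h.hS.q_eq, h.hS.cardW] at e8
  have u7 := two_mul_add_one_le h.hS.q_odd h.hS.u_odd h.hS.one_lt_u.ne' h.hS.q_dvd
  obtain ⟨r, hr⟩ := h.hS.p_odd
  obtain ⟨r', hr'⟩ := h.hS.q_odd
  exact count_14_11 (a := A.card) (b := B.card) (b' := B'.card) (u := u) (v := v) (p := p) (q := q)
    (k := Nat.card (MF M))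
    (by exact_mod_cast Nat.card_pos) (by exact_mod_cast q3) (by exact_mod_cast (by omega : 5 ≤ p))
    (by exact_mod_cast (by omega : 7 ≤ u))
    (by exact_mod_cast mul_le_of_geom q3 h.hS.three_le_p hv)
    (by exact_mod_cast (by nlinarith : 2 * p * v ≤ Nat.card (MF M))) (by exact_mod_cast e2) e3
    (by exact_mod_cast e4) (by exact_mod_cast e5) (by exact_mod_cast h.hS.card_cls_P)
    (by exact_mod_cast h.hT.card_cls_P) e8 (Nat.cast_nonneg _) (Nat.cast_nonneg _)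

end CfFT.PF
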